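import Groth.Prelude.Def_NoriFGS
import Groth.Agent.Lib.TorsorSch25.Basic

/-!
# Fibre products of pointed torsors under a fundamental group scheme
-/

set_option autoImplicit false
set_option backward.isDefEq.respectTransparency.types false
universe u

open CategoryTheory CategoryTheory.Limits MonoidalCategory CartesianMonoidalCategory MonObj GrpObj AlgebraicGeometry

namespace Groth.Agent.NoriPB21

variable {S : Scheme.{u}}

section Action

variable {A A₁ A₂ A₀ : Over S} [GrpObj A] [GrpObj A₁] [GrpObj A₂] [GrpObj A₀]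
  {T T₁ T₂ : Over S} (q₁ : A ⟶ A₁) (q₂ : A ⟶ A₂) [IsMonHom q₁] [IsMonHom q₂]
  (p₁ : A₁ ⟶ A₀) (p₂ : A₂ ⟶ A₀) [IsMonHom p₁] [IsMonHom p₂]
  (b : AlgGrp.Action A₀ T) (b₁ : AlgGrp.Action A₁ T₁) (b₂ : AlgGrp.Action A₂ T₂)
  (f₁ : T₁ ⟶ T) (f₂ : T₂ ⟶ T)

theorem equiv_pts {G H Y Z : Over S} [GrpObj G] [GrpObj H] {φ : G ⟶ H} [IsMonHom φ] {a : AlgGrp.Action G Y}
    {c : AlgGrp.Action H Z} {f : Y ⟶ Z} (h : AlgGrp.Action.IsEquivariant a (c.restrict φ) f) {W : Over S}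
    (g : W ⟶ G) (y : W ⟶ Y) : lift g y ≫ a.act ≫ f = lift (g ≫ φ) (y ≫ f) ≫ c.act := by
  have e : a.act ≫ f = (G ◁ f) ≫ (c.restrict φ).act := h
  rw [e, lift_whiskerLeft_assoc, AlgGrp.Action.lift_restrict_act]

theorem exists_action
    (h₁ : AlgGrp.Action.IsEquivariant b₁ (b.restrict p₁) f₁) (h₂ : AlgGrp.Action.IsEquivariant b₂ (b.restrict p₂) f₂)
    (hT : NonAbH1.IsPseudoTorsorSch b) (hT₁ : NonAbH1.IsPseudoTorsorSch b₁) (hT₂ : NonAbH1.IsPseudoTorsorSch b₂)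
    (hq : IsPullback q₁ q₂ p₁ p₂) :
    ∃ c : AlgGrp.Action A (pullback f₁ f₂),
      AlgGrp.Action.IsEquivariant c (b₁.restrict q₁) (pullback.fst f₁ f₂) ∧
      AlgGrp.Action.IsEquivariant c (b₂.restrict q₂) (pullback.snd f₁ f₂) ∧
      NonAbH1.IsPseudoTorsorSch c := by
  have hw : ((A ◁ pullback.fst f₁ f₂) ≫ (b₁.restrict q₁).act) ≫ f₁ =
      ((A ◁ pullback.snd f₁ f₂) ≫ (b₂.restrict q₂).act) ≫ f₂ := by
    have key : ∀ {W : Over S} (g : W ⟶ A) (v : W ⟶ pullback f₁ f₂),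
        lift g v ≫ ((A ◁ pullback.fst f₁ f₂) ≫ (b₁.restrict q₁).act) ≫ f₁ =
          lift g v ≫ ((A ◁ pullback.snd f₁ f₂) ≫ (b₂.restrict q₂).act) ≫ f₂ := fun g v => by
      simp only [Category.assoc, lift_whiskerLeft_assoc]
      rw [← Category.assoc, ← Category.assoc, AlgGrp.Action.lift_restrict_act, AlgGrp.Action.lift_restrict_act,
        Category.assoc, Category.assoc, equiv_pts h₁, equiv_pts h₂, Category.assoc, Category.assoc, Category.assoc,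
        Category.assoc, hq.w, pullback.condition]
    simpa only [lift_fst_snd, Category.id_comp] using key (fst A (pullback f₁ f₂)) (snd A _)
  let act : A ⊗ pullback f₁ f₂ ⟶ pullback f₁ f₂ :=
    pullback.lift ((A ◁ pullback.fst f₁ f₂) ≫ (b₁.restrict q₁).act) ((A ◁ pullback.snd f₁ f₂) ≫ (b₂.restrict q₂).act) hw
  let c : AlgGrp.Action A (pullback f₁ f₂) :=
    { act := act
      one_act := by
        apply pullback.hom_ext
        · rw [Category.assoc, pullback.lift_fst, ← whisker_exchange_assoc, (b₁.restrict q₁).one_act,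
            leftUnitor_naturality]
        · rw [Category.assoc, pullback.lift_snd, ← whisker_exchange_assoc, (b₂.restrict q₂).one_act,
            leftUnitor_naturality]
      mul_act := by
        apply pullback.hom_ext
        · simp only [Category.assoc, act, pullback.lift_fst]
          rw [← whisker_exchange_assoc, (b₁.restrict q₁).mul_act, ← MonoidalCategory.whiskerLeft_comp_assoc,
            pullback.lift_fst, MonoidalCategory.whiskerLeft_comp_assoc, associator_naturality_right_assoc]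
        · simp only [Category.assoc, act, pullback.lift_snd]
          rw [← whisker_exchange_assoc, (b₂.restrict q₂).mul_act, ← MonoidalCategory.whiskerLeft_comp_assoc,
            pullback.lift_snd, MonoidalCategory.whiskerLeft_comp_assoc, associator_naturality_right_assoc] }
  have e₁ : c.act ≫ pullback.fst f₁ f₂ = (A ◁ pullback.fst f₁ f₂) ≫ (b₁.restrict q₁).act := pullback.lift_fst _ _ _
  have e₂ : c.act ≫ pullback.snd f₁ f₂ = (A ◁ pullback.snd f₁ f₂) ≫ (b₂.restrict q₂).act := pullback.lift_snd _ _ _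
  refine ⟨c, e₁, e₂, TorsorSch25.isPseudoTorsorSch_of_existsUnique fun W x y => ?_⟩
  obtain ⟨g₁, hg₁, u₁⟩ := TorsorSch25.existsUnique_smul hT₁ (x ≫ pullback.fst f₁ f₂) (y ≫ pullback.fst f₁ f₂)
  obtain ⟨g₂, hg₂, u₂⟩ := TorsorSch25.existsUnique_smul hT₂ (x ≫ pullback.snd f₁ f₂) (y ≫ pullback.snd f₁ f₂)
  have hg : g₁ ≫ p₁ = g₂ ≫ p₂ := by
    have a1 := congrArg (· ≫ f₁) hg₁
    have a2 := congrArg (· ≫ f₂) hg₂
    simp only [Category.assoc] at a1 a2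
    rw [equiv_pts h₁, Category.assoc] at a1
    rw [equiv_pts h₂, Category.assoc, ← pullback.condition] at a2
    exact TorsorSch25.smul_cancel hT (a1.trans a2.symm)
  have hc1 : ∀ g : W ⟶ A, lift g x ≫ c.act ≫ pullback.fst f₁ f₂ =
      lift (g ≫ q₁) (x ≫ pullback.fst f₁ f₂) ≫ b₁.act := fun g => by
    rw [e₁, lift_whiskerLeft_assoc, AlgGrp.Action.lift_restrict_act]
  have hc2 : ∀ g : W ⟶ A, lift g x ≫ c.act ≫ pullback.snd f₁ f₂ =
      lift (g ≫ q₂) (x ≫ pullback.snd f₁ f₂) ≫ b₂.act := fun g => by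
    rw [e₂, lift_whiskerLeft_assoc, AlgGrp.Action.lift_restrict_act]
  refine ⟨hq.lift g₁ g₂ hg, ?_, fun g hgy => hq.hom_ext ?_ ?_⟩
  · apply pullback.hom_ext
    · rw [Category.assoc, hc1, hq.lift_fst]; exact hg₁
    · rw [Category.assoc, hc2, hq.lift_snd]; exact hg₂
  · rw [hq.lift_fst]
    exact u₁ _ (show _ = _ by rw [← hc1, ← Category.assoc, hgy])
  · rw [hq.lift_snd]
    exact u₂ _ (show _ = _ by rw [← hc2, ← Category.assoc, hgy])

end Action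

variable {k : Type u} [Field k] {X : Scheme.{u}} [X.Over (Spec (CommRingCat.of k))]

/-- Morphisms of pointed torsors compose. -/
theorem isPtTorsorHom_comp {G G' G'' : Over (Spec (CommRingCat.of k))} [GrpObj G] [GrpObj G'] [GrpObj G'']
    {T T' T'' : Over X}
    {a : AlgGrp.Action (Red.bc (X ↘ Spec (CommRingCat.of k)) G) T} {t : Spec (CommRingCat.of k) ⟶ T.left}
    {a' : AlgGrp.Action (Red.bc (X ↘ Spec (CommRingCat.of k)) G') T'} {t' : Spec (CommRingCat.of k) ⟶ T'.left}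
    {a'' : AlgGrp.Action (Red.bc (X ↘ Spec (CommRingCat.of k)) G'') T''} {t'' : Spec (CommRingCat.of k) ⟶ T''.left}
    {φ : G ⟶ G'} [IsMonHom φ] {ψ : G' ⟶ G''} [IsMonHom ψ] {f : T ⟶ T'} {g : T' ⟶ T''}
    (h : NoriFGS.IsPtTorsorHom a t a' t' φ f) (h' : NoriFGS.IsPtTorsorHom a' t' a'' t'' ψ g) :
    NoriFGS.IsPtTorsorHom a t a'' t'' (φ ≫ ψ) (f ≫ g) := by
  refine ⟨?_, by rw [Over.comp_left, ← Category.assoc, h.2, h'.2]⟩
  show _ = _
  have key : ∀ {W : Over X} (q : W ⟶ Red.bc (X ↘ Spec (CommRingCat.of k)) G) (y : W ⟶ T),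
      lift q y ≫ a.act ≫ f ≫ g =
        lift q y ≫ (_ ◁ (f ≫ g)) ≫ (a''.restrict ((Over.pullback (X ↘ Spec (CommRingCat.of k))).map (φ ≫ ψ))).act :=
    fun q y => by
    rw [lift_whiskerLeft_assoc, AlgGrp.Action.lift_restrict_act, Functor.map_comp, ← Category.assoc a.act,
      ← Category.assoc, ← Category.assoc (lift q y), Category.assoc (lift q y), equiv_pts h.1, Category.assoc,
      equiv_pts h'.1, Category.assoc, Category.assoc]
  simpa only [lift_fst_snd, Category.id_comp] using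
    key (fst (Red.bc (X ↘ Spec (CommRingCat.of k)) G) T) (snd _ T)

theorem exists_action_isTorsorFor_pullback
    (x : Spec (CommRingCat.of k) ⟶ X)
    (πN : Over (Spec (CommRingCat.of k))) [GrpObj πN] (P : Over X)
    (a : AlgGrp.Action (Red.bc (X ↘ Spec (CommRingCat.of k)) πN) P) (p : Spec (CommRingCat.of k) ⟶ P.left)
    (hP : NoriFGS.IsFGS x πN a p)
    (G G₁ G₂ : Over (Spec (CommRingCat.of k))) [GrpObj G] [GrpObj G₁] [GrpObj G₂]
    [IsFinite G.hom] [IsFinite G₁.hom] [IsFinite G₂.hom]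
    (φ₁ : G₁ ⟶ G) (φ₂ : G₂ ⟶ G) [IsMonHom φ₁] [IsMonHom φ₂]
    (T T₁ T₂ : Over X)
    (b : AlgGrp.Action (Red.bc (X ↘ Spec (CommRingCat.of k)) G) T)
    (b₁ : AlgGrp.Action (Red.bc (X ↘ Spec (CommRingCat.of k)) G₁) T₁)
    (b₂ : AlgGrp.Action (Red.bc (X ↘ Spec (CommRingCat.of k)) G₂) T₂)
    (hT : NonAbH1.IsTorsorFor Scheme.fpqcPrecoverage b)
    (hT₁ : NonAbH1.IsTorsorFor Scheme.fpqcPrecoverage b₁)
    (hT₂ : NonAbH1.IsTorsorFor Scheme.fpqcPrecoverage b₂)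
    (t : Spec (CommRingCat.of k) ⟶ T.left) (t₁ : Spec (CommRingCat.of k) ⟶ T₁.left) (t₂ : Spec (CommRingCat.of k) ⟶ T₂.left)
    (ht : t ≫ T.hom = x) (ht₁ : t₁ ≫ T₁.hom = x) (ht₂ : t₂ ≫ T₂.hom = x)
    (f₁ : T₁ ⟶ T) (f₂ : T₂ ⟶ T)
    (hf₁ : NoriFGS.IsPtTorsorHom b₁ t₁ b t φ₁ f₁) (hf₂ : NoriFGS.IsPtTorsorHom b₂ t₂ b t φ₂ f₂)
    (Q : Over (Spec (CommRingCat.of k))) [GrpObj Q] (π₁ : Q ⟶ G₁) (π₂ : Q ⟶ G₂) [IsMonHom π₁] [IsMonHom π₂]
    (hQ : IsPullback π₁ π₂ φ₁ φ₂) :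
    ∃ c : AlgGrp.Action (Red.bc (X ↘ Spec (CommRingCat.of k)) Q) (pullback f₁ f₂),
      AlgGrp.Action.IsEquivariant c (b₁.restrict ((Over.pullback (X ↘ Spec (CommRingCat.of k))).map π₁)) (pullback.fst f₁ f₂) ∧
      AlgGrp.Action.IsEquivariant c (b₂.restrict ((Over.pullback (X ↘ Spec (CommRingCat.of k))).map π₂)) (pullback.snd f₁ f₂) ∧
      NonAbH1.IsTorsorFor Scheme.fpqcPrecoverage c := by
  obtain ⟨c, c1, c2, c3⟩ := exists_action _ _ _ _ b b₁ b₂ f₁ f₂ hf₁.1 hf₂.1 hT.1 hT₁.1 hT₂.1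
    (hQ.map (Over.pullback (X ↘ Spec (CommRingCat.of k))))
  refine ⟨c, c1, c2, c3, ?_⟩
  obtain ⟨-, ⟨-, R, hR, hsec⟩, -, huniv⟩ := hP
  obtain ⟨ψ₁, _, g₁, h₁, -⟩ := huniv G₁ T₁ b₁ t₁ hT₁ ht₁
  obtain ⟨ψ₂, _, g₂, h₂, -⟩ := huniv G₂ T₂ b₂ t₂ hT₂ ht₂
  obtain ⟨ψ, _, g, -, huniq⟩ := huniv G T b t hT ht
  have e1 := (huniq _ _ (isPtTorsorHom_comp h₁ hf₁)).2
  have e2 := (huniq _ _ (isPtTorsorHom_comp h₂ hf₂)).2
  let d : P ⟶ pullback f₁ f₂ := pullback.lift g₁ g₂ (e1.trans e2.symm)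
  refine ⟨R, hR, fun S' f hf => ?_⟩
  obtain ⟨s, hs⟩ := hsec f hf
  exact ⟨s ≫ d.left, by rw [Category.assoc, Over.w d, hs]⟩

end Groth.Agent.NoriPB21
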